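import Groth.Prelude.Def_DeRham
import Mathlib

/-! Lifting forms along the coordinate hyperplanes. -/

set_option autoImplicit false
set_option maxHeartbeats 2000000
set_option synthInstance.maxHeartbeats 400000
universe u

open exteriorPower

noncomputable section

namespace Groth.Agent.HypLiftLib

theorem top_wedge {R M : Type u} [CommRing R] [AddCommGroup M] [Module R M] {m : ℕ} (w : Fin m → M)
    (hw : Submodule.span R (Set.range w) = ⊤) (x : ↥(⋀[R]^m M)) : ∃ a : R, x = a • ιMulti R m w := by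
  classical
  let φ : (Fin m → R) →ₗ[R] M := Fintype.linearCombination R w
  have hφ : Function.Surjective φ := by
    rw [← LinearMap.range_eq_top, Fintype.range_linearCombination, hw]
  let e := Pi.basisFun R (Fin m)
  have he : ∀ i, φ (e i) = w i := fun i => by simp [φ, e]
  let f := (ιMulti R m).compLinearMap φ
  have hf : f = (LinearMap.toSpanSingleton R ↥(⋀[R]^m M) (ιMulti R m w)).compAlternatingMap e.det := by
    refine e.ext_alternating fun v hv => ?_
    let σ : Equiv.Perm (Fin m) := Equiv.ofBijective v (Finite.injective_iff_bijective.mp hv)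
    have hσ : (fun i => e (v i)) = e ∘ σ := rfl
    rw [hσ, AlternatingMap.map_perm, AlternatingMap.map_perm]
    congr 1
    simp [f, Function.comp_def, he, e.det_self]
  have hx : x ∈ Submodule.span R (Set.range (ιMulti R m (M := M))) := by
    rw [exteriorPower.ιMulti_span]; trivial
  induction hx using Submodule.span_induction with
  | mem y hy =>
    obtain ⟨v, rfl⟩ := hy
    choose c hc using fun i => hφ (v i)
    refine ⟨e.det c, ?_⟩
    have h := DFunLike.congr_fun hf c
    simpa [f, hc, Function.comp_def] using h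
  | zero => exact ⟨0, (zero_smul R _).symm⟩
  | add y z _ _ hy hz =>
    obtain ⟨a, rfl⟩ := hy; obtain ⟨b, rfl⟩ := hz
    exact ⟨a + b, (add_smul a b _).symm⟩
  | smul c y _ hy =>
    obtain ⟨a, rfl⟩ := hy
    exact ⟨c * a, (mul_smul c a _).symm⟩

variable {k : Type u} [Field k] {A : Type u} [CommRing A] [Algebra k A]
  {d n : ℕ} (t : Fin d → A) (e : Fin n ↪ Fin d)

abbrev idl (I : Finset (Fin n)) : Ideal A := ⨆ i ∈ I, Ideal.span {t (e i)}

theorem mk_t_eq_zero {I : Finset (Fin n)} {i : Fin n} (hi : i ∈ I) :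
    Ideal.Quotient.mk (idl t e I) (t (e i)) = 0 :=
  Ideal.Quotient.eq_zero_iff_mem.2 (le_biSup (f := fun i => Ideal.span {t (e i)}) hi (Ideal.mem_span_singleton_self _))

theorem exists_lift (b : Module.Basis (Fin d) A (Ω[A⁄k])) (hb : ∀ i, b i = KaehlerDifferential.D k A (t i))
    (ψ : ∀ (I J : Finset (Fin n)) (p : ℕ), ↥(⋀[(A ⧸ idl t e I)]^p (Ω[(A ⧸ idl t e I)⁄k])) →+
      ↥(⋀[(A ⧸ idl t e J)]^p (Ω[(A ⧸ idl t e J)⁄k])))
    (hψ : ∀ (I J : Finset (Fin n)) (h : I ⊆ J),
      DeRham.IsCxMap (KaehlerDifferential.D k (A ⧸ idl t e I)) (KaehlerDifferential.D k (A ⧸ idl t e J))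
        (Ideal.Quotient.factor (biSup_mono h)) (ψ I J))
    (s m : ℕ) (hs : s + 1 + m = d)
    (g : ∀ J : Finset (Fin n), ↥(⋀[(A ⧸ idl t e J)]^m (Ω[(A ⧸ idl t e J)⁄k]))) :
    ∃ ω : ∀ I : Finset (Fin n), ↥(⋀[(A ⧸ idl t e I)]^m (Ω[(A ⧸ idl t e I)⁄k])),
      ∀ J : Finset (Fin n), J.card = s + 1 →
        (∑ j ∈ J.attach,
          ((-1 : ℤ) ^ (J.filter (fun i => i < j.1)).card) •
            ψ (J.erase j.1) J m (ω (J.erase j.1))) = g J := by
  classical
  -- for every `J`: the generator and a lift of the coefficient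
  have hgen : ∀ J : Finset (Fin n), J.card = s + 1 → ∃ (q : Fin m → Fin d) (a : A),
      (∀ i, i ∉ J → e i ∈ Set.range q) ∧
      g J = DeRham.gen (KaehlerDifferential.D k (A ⧸ idl t e J)) m (Ideal.Quotient.mk _ a)
        (fun l => Ideal.Quotient.mk _ (t (q l))) := by
    intro J hJ
    let C : Finset (Fin d) := (J.map e)ᶜ
    have hC : C.card = m := by
      rw [Finset.card_compl, Finset.card_map, hJ, Fintype.card_fin]; omega
    let q : Fin m → Fin d := C.orderEmbOfFin hC
    have hq : Set.range q = (C : Set (Fin d)) := Finset.range_orderEmbOfFin C hC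
    have hmem : ∀ i, i ∉ J → e i ∈ Set.range q := fun i hi => by
      rw [hq]; simpa [C] using hi
    let B := A ⧸ idl t e J
    let w : Fin m → Ω[B⁄k] := fun l => KaehlerDifferential.D k B (Ideal.Quotient.mk _ (t (q l)))
    have hw : Submodule.span B (Set.range w) = ⊤ := by
      rw [← top_le_iff, ← KaehlerDifferential.span_range_derivation, Submodule.span_le]
      rintro _ ⟨x, rfl⟩
      obtain ⟨a, rfl⟩ := Ideal.Quotient.mk_surjective x
      have h := congrArg (KaehlerDifferential.map k k A B) (b.sum_repr (KaehlerDifferential.D k A a))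
      rw [map_sum, KaehlerDifferential.map_D] at h
      show KaehlerDifferential.D k B (algebraMap A B a) ∈ Submodule.span B (Set.range w)
      rw [← h]
      refine Submodule.sum_mem _ fun i _ => ?_
      rw [map_smul, hb, KaehlerDifferential.map_D, ← algebraMap_smul B]
      refine Submodule.smul_mem _ _ ?_
      by_cases hi : i ∈ Set.range q
      · obtain ⟨l, rfl⟩ := hi
        exact Submodule.subset_span ⟨l, rfl⟩
      · obtain ⟨i', hi', rfl⟩ : ∃ i' ∈ J, e i' = i := by
          rw [hq] at hi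
          simpa [C] using hi
        rw [show algebraMap A B (t (e i')) = 0 from mk_t_eq_zero t e hi', map_zero]
        exact zero_mem _
    obtain ⟨a, ha⟩ := top_wedge w hw (g J)
    obtain ⟨a, rfl⟩ := Ideal.Quotient.mk_surjective a
    exact ⟨q, a, hmem, ha⟩
  have hj : ∀ J : Finset (Fin n), J.card = s + 1 → ∃ j, j ∈ J := fun J hJ =>
    Finset.card_pos.1 (by omega)
  choose q a hq hg using hgen
  choose j₀ hj₀ using hj
  let P : Finset (Fin n) → Finset {J : Finset (Fin n) // J.card = s + 1} := fun I =>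
    Finset.univ.filter fun J => J.1.erase (j₀ J.1 J.2) = I
  refine ⟨fun I => ∑ J ∈ P I, ((-1 : ℤ) ^ (J.1.filter (fun i => i < j₀ J.1 J.2)).card) •
    DeRham.gen (KaehlerDifferential.D k (A ⧸ idl t e I)) m (Ideal.Quotient.mk _ (a J.1 J.2))
      (fun l => Ideal.Quotient.mk _ (t (q J.1 J.2 l))), fun J' hJ' => ?_⟩
  have key : ∀ (j : Fin n), j ∈ J' → ∀ J : {J : Finset (Fin n) // J.card = s + 1}, J ∈ P (J'.erase j) →
      ψ (J'.erase j) J' m (DeRham.gen (KaehlerDifferential.D k (A ⧸ idl t e (J'.erase j))) m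
        (Ideal.Quotient.mk _ (a J.1 J.2)) (fun l => Ideal.Quotient.mk _ (t (q J.1 J.2 l)))) =
        if J.1 = J' then g J' else 0 := by
    intro j hj J hJ
    rw [hψ (J'.erase j) J' (Finset.erase_subset _ _)]
    simp only [Ideal.Quotient.factor_mk]
    split_ifs with h
    · obtain ⟨J, hJc⟩ := J
      subst h
      exact (hg _ hJc).symm
    · have hI : J.1.erase (j₀ J.1 J.2) = J'.erase j := (Finset.mem_filter.1 hJ).2
      have hjJ : j ∉ J.1 := fun hjm => h (by
        have : j = j₀ J.1 J.2 := by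
          by_contra hne
          have : j ∈ J'.erase j := hI ▸ Finset.mem_erase.2 ⟨hne, hjm⟩
          simp at this
        rw [← Finset.insert_erase hj, ← Finset.insert_erase (hj₀ J.1 J.2), hI, ← this])
      obtain ⟨l, hl⟩ := hq J.1 J.2 j hjJ
      rw [DeRham.gen, AlternatingMap.map_coord_zero (ιMulti (A ⧸ idl t e J') m) l (by
        show KaehlerDifferential.D k (A ⧸ idl t e J') (Ideal.Quotient.mk _ (t (q J.1 J.2 l))) = 0
        rw [hl, mk_t_eq_zero t e hj, map_zero]), smul_zero]
  rw [Finset.sum_eq_single (⟨j₀ J' hJ', hj₀ J' hJ'⟩ : {x // x ∈ J'})]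
  · rw [map_sum, Finset.sum_eq_single (⟨J', hJ'⟩ : {J : Finset (Fin n) // J.card = s + 1})]
    · rw [map_zsmul, key _ (hj₀ J' hJ') ⟨J', hJ'⟩ (by simp [P]), if_pos rfl, smul_smul, ← pow_add,
        ← two_mul, pow_mul, neg_one_sq, one_pow, one_smul]
    · intro J hJ hne
      rw [map_zsmul, key _ (hj₀ J' hJ') J hJ, if_neg (fun h => hne (Subtype.ext h)), smul_zero]
    · intro h; exact absurd (by simp [P]) h
  · intro j _ hne
    rw [map_sum, Finset.sum_eq_zero, smul_zero]
    intro J hJ
    rw [map_zsmul, key _ j.2 J hJ, if_neg, smul_zero]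
    intro h
    obtain ⟨J, hJc⟩ := J
    subst h
    have hI : J.erase (j₀ J hJc) = J.erase j.1 := (Finset.mem_filter.1 hJ).2
    exact hne (Subtype.ext (by
      by_contra h'
      have : j.1 ∈ J.erase (j₀ J hJc) := Finset.mem_erase.2 ⟨h', j.2⟩
      rw [hI] at this
      simp at this))
  · intro h; exact absurd (Finset.mem_attach _ _) h

end Groth.Agent.HypLiftLib
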